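import Groth.Agent.Olivier.Descent
import Groth.Agent.Hensel.Branches

/-!
Weakly étale local algebras over strictly henselian local rings.
-/

set_option autoImplicit false
set_option backward.isDefEq.respectTransparency false

universe u

open TensorProduct IsLocalRing

namespace Groth.Agent.Olivier

variable {A B : Type u} [CommRing A] [CommRing B] [HenselianLocalRing A] [IsLocalRing B]
    [IsSepClosed (ResidueField A)] [Algebra A B] [IsLocalHom (algebraMap A B)] [Algebra.WeaklyEtale A B]

theorem exists_sub_mem (b : B) : ∃ a : A, b - algebraMap A B a ∈ maximalIdeal B := by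
  let k := ResidueField A
  let g : k ⊗[A] B →ₐ[A] ResidueField B :=
    Algebra.TensorProduct.lift (IsScalarTower.toAlgHom A k (ResidueField B))
      (IsScalarTower.toAlgHom A B (ResidueField B)) fun _ _ => Commute.all _ _
  have : Nontrivial (k ⊗[A] B) := g.toRingHom.domain_nontrivial
  obtain ⟨ψ⟩ := Groth.Agent.S0739.exists_section_spec k (k ⊗[A] B)
  let σ : B →ₐ[A] k := (ψ.restrictScalars A).comp Algebra.TensorProduct.includeRight
  have hσ : Function.Surjective σ := fun c => by
    obtain ⟨a, rfl⟩ := IsLocalRing.residue_surjective c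
    exact ⟨algebraMap A B a, σ.commutes a⟩
  have hmax : (RingHom.ker σ).IsMaximal := RingHom.ker_isMaximal_of_surjective _ hσ
  obtain ⟨a, ha⟩ := IsLocalRing.residue_surjective (σ b)
  refine ⟨a, (IsLocalRing.eq_maximalIdeal hmax).le ?_⟩
  rw [RingHom.mem_ker, map_sub, σ.commutes, sub_eq_zero]
  exact ha.symm

include A in
theorem eq_of_algHom {K : Type u} [Field K] [IsAlgClosed K] [Algebra A K] (l m : B →ₐ[A] K) : l = m := by
  let A' := integralClosure A K
  have : IsLocalRing A' := Groth.Agent.Hensel.isLocalRing_of_integral_domain A A'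
  let ι : A' ⊗[A] B →ₐ[A] K ⊗[A] B := Algebra.TensorProduct.map A'.val (AlgHom.id A B)
  have hι : Function.Injective ι := by
    have h := Module.Flat.rTensor_preserves_injective_linearMap (M := B) A'.val.toLinearMap Subtype.val_injective
    exact h
  let g : A' ⊗[A] B →ₐ[A] K := Algebra.TensorProduct.lift A'.val l fun _ _ => Commute.all _ _
  have : Nontrivial (A' ⊗[A] B) := g.toRingHom.domain_nontrivial
  let N : Ideal (A' ⊗[A] B) :=
    (maximalIdeal B).map (Algebra.TensorProduct.includeRight : B →ₐ[A] A' ⊗[A] B)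
  have hN : ∀ z : A' ⊗[A] B, ∃ a' : A', z - a' ⊗ₜ[A] 1 ∈ N := fun z => by
    induction z using TensorProduct.induction_on with
    | zero => exact ⟨0, by simp⟩
    | tmul x y =>
      obtain ⟨a, ha⟩ := exists_sub_mem (A := A) y
      refine ⟨a • x, ?_⟩
      have h : x ⊗ₜ[A] y - (a • x) ⊗ₜ[A] 1 = (x ⊗ₜ[A] 1) * ((1 : A') ⊗ₜ[A] (y - algebraMap A B a)) := by
        rw [Algebra.TensorProduct.tmul_mul_tmul, mul_one, one_mul, tmul_sub, smul_tmul, Algebra.smul_def, mul_one]
      rw [h]
      exact N.mul_mem_left _ (Ideal.mem_map_of_mem _ ha)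
    | add x y hx hy =>
      obtain ⟨c, hc⟩ := hx
      obtain ⟨d, hd⟩ := hy
      exact ⟨c + d, by rw [add_tmul, add_sub_add_comm]; exact N.add_mem hc hd⟩
  have hmax : ∀ P : Ideal (A' ⊗[A] B), P.IsMaximal →
      N ≤ P ∧ P.comap (Algebra.TensorProduct.includeLeft : A' →ₐ[A] A' ⊗[A] B) = maximalIdeal A' := by
    intro P hP
    let i₂ := (Algebra.TensorProduct.includeRight : B →ₐ[A] A' ⊗[A] B)
    let i₁ := (Algebra.TensorProduct.includeLeft : A' →ₐ[A] A' ⊗[A] B)
    have hint : i₂.toRingHom.IsIntegral := by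
      let := i₂.toRingHom.toAlgebra
      intro z
      induction z using TensorProduct.induction_on with
      | zero => exact RingHom.isIntegralElem_zero _
      | tmul x y =>
        rw [← one_mul y, ← mul_one x, ← Algebra.TensorProduct.tmul_mul_tmul]
        refine RingHom.IsIntegralElem.mul _ ?_ (RingHom.isIntegralElem_map _ (x := y))
        obtain ⟨p, hpm, hp⟩ := Algebra.IsIntegral.isIntegral (R := A) x
        refine ⟨p.map (algebraMap A B), hpm.map _, ?_⟩
        rw [Polynomial.eval₂_map, AlgHom.toRingHom_eq_coe, i₂.comp_algebraMap, ← Polynomial.aeval_def]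
        change Polynomial.aeval (i₁ x) p = 0
        rw [Polynomial.aeval_algHom_apply, Polynomial.aeval_def, hp, map_zero]
      | add x y hx hy => exact RingHom.IsIntegralElem.add _ hx hy
    have hB : P.comap i₂ = maximalIdeal B :=
      IsLocalRing.eq_maximalIdeal (Ideal.isMaximal_comap_of_isIntegral_of_isMaximal' i₂.toRingHom hint P)
    refine ⟨Ideal.map_le_iff_le_comap.mpr hB.ge, IsLocalRing.eq_maximalIdeal ?_⟩
    refine Ideal.isMaximal_of_isIntegral_of_isMaximal_comap (R := A) _ ?_
    have h : (P.comap i₁).comap (algebraMap A A') = (P.comap i₂).comap (algebraMap A B) := by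
      ext a
      simp only [Ideal.mem_comap]
      rw [i₁.commutes, i₂.commutes]
    rw [h, hB, (IsLocalRing.maximalIdeal_comap (algebraMap A B))]
    exact maximalIdeal.isMaximal A
  have : IsLocalRing (A' ⊗[A] B) := by
    obtain ⟨P₀, hP₀⟩ := Ideal.exists_maximal (A' ⊗[A] B)
    refine IsLocalRing.of_unique_max_ideal ⟨P₀, hP₀, fun P hP => hP.eq_of_le hP₀.ne_top fun z hz => ?_⟩
    obtain ⟨a', ha'⟩ := hN z
    have h1 : a' ∈ P.comap (Algebra.TensorProduct.includeLeft : A' →ₐ[A] A' ⊗[A] B) := by
      simpa using P.sub_mem hz ((hmax P hP).1 ha')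
    rw [(hmax P hP).2, ← (hmax P₀ hP₀).2] at h1
    have h2 := P₀.add_mem ((hmax P₀ hP₀).1 ha') h1
    simpa using h2
  have hidem : ∀ e : K ⊗[A] B, IsIdempotentElem e → e = 0 ∨ e = 1 := by
    intro e he
    obtain ⟨z, rfl⟩ := mem_range_integralClosure he
    have hz : IsIdempotentElem z := hι (by rw [map_mul]; exact he)
    rcases IsLocalRing.isUnit_or_isUnit_one_sub_self z with h | h
    · exact .inr (by rw [IsIdempotentElem.iff_eq_one_of_isUnit h |>.mp hz, map_one])
    · refine .inl ?_
      have h1 := (IsIdempotentElem.iff_eq_one_of_isUnit h).mp hz.one_sub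
      rw [sub_eq_self] at h1
      rw [h1, map_zero]
  have hreg : ∀ z : K ⊗[A] B, ∃ b, z * z * b = z := Groth.Agent.WeakEt.exists_sq_mul_of_weaklyEtale (R := K)
    (fun a => by
      rcases eq_or_ne a 0 with rfl | ha
      · exact ⟨0, by simp⟩
      · exact ⟨a⁻¹, by rw [mul_assoc, mul_inv_cancel₀ ha, mul_one]⟩)
  let φl : K ⊗[A] B →ₐ[K] K := Algebra.TensorProduct.lift (AlgHom.id K K) l fun _ _ => Commute.all _ _
  let φm : K ⊗[A] B →ₐ[K] K := Algebra.TensorProduct.lift (AlgHom.id K K) m fun _ _ => Commute.all _ _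
  have hinj : Function.Injective φl := (injective_iff_map_eq_zero φl).mpr fun z hz => by
    obtain ⟨b, hb⟩ := hreg z
    rcases hidem (z * b) (by unfold IsIdempotentElem; linear_combination b * hb) with h | h
    · linear_combination -hb + z * h
    · have := congrArg φl h
      rw [map_mul, hz, zero_mul, map_one] at this
      exact absurd this zero_ne_one
  ext b
  have h : (1 : K) ⊗ₜ[A] b = algebraMap K (K ⊗[A] B) (φl ((1 : K) ⊗ₜ[A] b)) := hinj (by rw [φl.commutes]; rfl)
  have h2 := congrArg φm h
  rw [φm.commutes] at h2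
  simpa [φl, φm] using h2.symm

theorem bijective_algebraMap : Function.Bijective (algebraMap A B) := by
  let lB := Algebra.TensorProduct.lmul' A (S := B)
  have hnil : ∀ z, lB z = 0 → IsNilpotent z := fun z hz => by
    rw [← mem_nilradical, nilradical_eq_sInf, Ideal.mem_sInf]
    intro P hP
    have : P.IsPrime := hP
    let Q := (B ⊗[A] B) ⧸ P
    let K := AlgebraicClosure (FractionRing Q)
    let c : B ⊗[A] B →ₐ[A] K := (IsScalarTower.toAlgHom A Q K).comp (Ideal.Quotient.mkₐ A P)
    let l := c.comp (Algebra.TensorProduct.includeLeft : B →ₐ[A] B ⊗[A] B)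
    let m := c.comp (Algebra.TensorProduct.includeRight : B →ₐ[A] B ⊗[A] B)
    have hlm := eq_of_algHom l m
    have hc : c = l.comp lB := by
      refine Algebra.TensorProduct.ext' fun x y => ?_
      have : c (x ⊗ₜ[A] y) = l x * m y := by
        simp only [l, m, AlgHom.comp_apply, ← map_mul]
        simp
      rw [this, ← hlm, ← map_mul]
      simp [lB]
    have h0 : c z = 0 := by rw [hc, AlgHom.comp_apply, hz, map_zero]
    have hinj : Function.Injective (algebraMap Q K) := by
      rw [IsScalarTower.algebraMap_eq Q (FractionRing Q) K]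
      exact (algebraMap (FractionRing Q) K).injective.comp (IsFractionRing.injective Q (FractionRing Q))
    exact Ideal.Quotient.eq_zero_iff_mem.mp (hinj (by rw [map_zero]; exact h0))
  have : (RingHom.ker lB.toRingHom).Pure :=
    (Groth.Agent.WeakEt.flat_iff_kernel_pure fun b => ⟨b ⊗ₜ[A] 1, (Algebra.TensorProduct.lmul'_apply_tmul b 1).trans (mul_one b)⟩).1
      (Algebra.WeaklyEtale.flat_lmul' A B)
  have hzero : ∀ z, lB z = 0 → z = 0 := fun z hz => by
    obtain ⟨j, hj, hzj⟩ := Ideal.exists_eq_mul_of_pure (I := RingHom.ker lB.toRingHom) (x := z) hz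
    obtain ⟨n, hn⟩ := hnil j hj
    have : ∀ k, z = z * j ^ k := fun k => by
      induction k with
      | zero => simp
      | succ k ih => rw [pow_succ', ← mul_assoc, ← hzj]; exact ih
    rw [this n, hn, mul_zero]
  have : Module.FaithfullyFlat A B := .of_flat_of_isLocalHom
  refine ⟨FaithfulSMul.algebraMap_injective A B, ?_⟩
  refine (Module.FaithfullyFlat.lTensor_surjective_iff_surjective A B (Algebra.linearMap A B)).mp fun z => ?_
  refine ⟨lB z ⊗ₜ[A] 1, ?_⟩
  have h : lB (lB z ⊗ₜ[A] (1 : B) - z) = 0 := by simp [lB]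
  refine Eq.trans ?_ (sub_eq_zero.mp (hzero _ h))
  simp

end Groth.Agent.Olivier
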