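import Mathlib
import Groth.Agent.S0739

/-!
Idempotents in the base change of a weakly étale algebra to an algebraically closed field are defined over
every valuation subring.
-/

set_option autoImplicit false
set_option backward.isDefEq.respectTransparency false

universe u

open TensorProduct

namespace Groth.Agent.Olivier

theorem weaklyEtale_localization {R : Type u} [CommRing R] (S : Submonoid R) :
    Algebra.WeaklyEtale R (Localization S) :=
  ⟨IsLocalization.flat _ S, .of_bijective (IsLocalization.bijective_linearMap_mul' S (Localization S) (R := R))⟩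

theorem exists_algHom_ne_zero (K : Type u) [Field K] [IsSepClosed K] {C : Type u} [CommRing C] [Algebra K C]
    [Algebra.WeaklyEtale K C] (T : Submonoid C) (h0 : (0 : C) ∉ T) :
    ∃ φ : C →ₐ[K] K, ∀ t ∈ T, φ t ≠ 0 := by
  have := weaklyEtale_localization T
  have : Algebra.WeaklyEtale K (Localization T) := .trans K C _
  have : Nontrivial (Localization T) :=
    not_subsingleton_iff_nontrivial.mp fun h => h0 ((IsLocalization.subsingleton_iff (M := T) (S := Localization T)).mp h)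
  obtain ⟨ψ⟩ := Groth.Agent.S0739.exists_section_spec K (Localization T)
  exact ⟨ψ.comp (IsScalarTower.toAlgHom K C (Localization T)),
    fun t ht => ((IsLocalization.map_units (Localization T) ⟨t, ht⟩).map ψ).ne_zero⟩

section

variable {A B K : Type u} [CommRing A] [CommRing B] [Field K] [Algebra A B] [Algebra A K]

/-- An idempotent of the geometric fibre is defined over each valuation ring containing the base. -/
theorem mem_range_valuation [Algebra.WeaklyEtale A B] [IsAlgClosed K] (V : ValuationSubring K) (VA : Subalgebra A K)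
    (hVA : ∀ x, x ∈ VA ↔ x ∈ V) {e : K ⊗[A] B} (he : IsIdempotentElem e) :
    e ∈ (Algebra.TensorProduct.map VA.val (AlgHom.id A B)).range := by
  set BV := (Algebra.TensorProduct.map VA.val (AlgHom.id A B)).range with hBV
  by_contra hne
  let M : Ideal BV :=
    { carrier := {s | (s : K ⊗[A] B) * e ∈ BV}
      add_mem' := fun {a b} ha hb => by
        simp only [Set.mem_ofPred_eq, Subalgebra.coe_add, add_mul] at *
        exact add_mem ha hb
      zero_mem' := by simp
      smul_mem' := fun c a ha => by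
        simp only [Set.mem_ofPred_eq, smul_eq_mul, Subalgebra.coe_mul, mul_assoc] at *
        exact mul_mem c.2 ha }
  obtain ⟨P, hP, hMP⟩ := Ideal.exists_le_maximal M (fun h => hne (by
    have h1 : (1 : BV) ∈ M := h ▸ Submodule.mem_top
    simpa [M] using h1))
  let T : Submonoid (K ⊗[A] B) := P.primeCompl.map BV.val
  have key : ∀ f : K ⊗[A] B, IsIdempotentElem f → (∀ s : BV, (s : K ⊗[A] B) * f = 0 → s ∈ M) →
      ∃ φ : (K ⊗[A] B) →ₐ[K] K, φ f = 1 ∧ ∀ s : BV, s ∉ P → φ (s : K ⊗[A] B) ≠ 0 := by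
    intro f hf hs
    obtain ⟨φ, hφ⟩ := exists_algHom_ne_zero K (T ⊔ Submonoid.powers f) (fun h0 => by
      obtain ⟨_, ⟨s, hsP, rfl⟩, _, ⟨n, rfl⟩, h⟩ := Submonoid.mem_sup.mp h0
      refine hsP (hMP (hs s ?_))
      rcases n with - | n
      · simp only [pow_zero, mul_one] at h
        simp only [Subalgebra.coe_val] at h
        rw [h, zero_mul]
      · simp only [hf.pow_succ_eq n, Subalgebra.coe_val] at h
        exact h)
    refine ⟨φ, ?_, fun s hsP => hφ _ (Submonoid.mem_sup_left ⟨s, hsP, rfl⟩)⟩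
    have h1 := hφ f (Submonoid.mem_sup_right (Submonoid.mem_powers f))
    exact (mul_eq_left₀ h1).mp (by rw [← map_mul, hf])
  obtain ⟨φ₁, he₁, hφ₁⟩ := key e he (fun s h => by
    change (s : K ⊗[A] B) * e ∈ BV
    rw [h]; exact zero_mem _)
  obtain ⟨φ₂, he₂, hφ₂⟩ := key (1 - e) he.one_sub (fun s h => by
    rw [mul_sub, mul_one, sub_eq_zero] at h
    change (s : K ⊗[A] B) * e ∈ BV
    rw [← h]; exact s.2)
  let j : V →+* BV :=
    { toFun := fun v => ⟨(v : K) ⊗ₜ[A] 1, ⟨(⟨v, (hVA _).mpr v.2⟩ : VA) ⊗ₜ[A] 1, rfl⟩⟩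
      map_one' := rfl
      map_mul' := fun a b => Subtype.ext (by simp [Algebra.TensorProduct.tmul_mul_tmul])
      map_zero' := Subtype.ext (by simp)
      map_add' := fun a b => Subtype.ext (by simp [TensorProduct.add_tmul]) }
  let W := V.ofPrime (P.comap j)
  have hj : ∀ (φ : (K ⊗[A] B) →ₐ[K] K) (v : V), φ (j v : K ⊗[A] B) = (v : K) := fun φ v => φ.commutes (v : K)
  have hunit : ∀ v : V, j v ∉ P → W.valuation (v : K) = 1 := fun v hv =>
    (V.ofPrime_valuation_eq_one_iff_mem_primeCompl _ v).mpr hv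
  have hV1 : ∀ v : V, W.valuation (v : K) ≤ 1 := fun v =>
    (W.valuation_le_one_iff _).mpr (V.le_ofPrime _ v.2)
  have hnonunit : ∀ v : V, j v ∈ P → W.valuation (v : K) < 1 := fun v hv =>
    lt_of_le_of_ne (hV1 v) fun h => (V.ofPrime_valuation_eq_one_iff_mem_primeCompl _ v).mp h hv
  -- every point is centred at `P`
  have centre : ∀ (φ : (K ⊗[A] B) →ₐ[K] K), (∀ s : BV, s ∉ P → φ (s : K ⊗[A] B) ≠ 0) → ∀ x : BV,
      (∀ v : V, φ (x : K ⊗[A] B) = v → x - j v ∈ P) ∧
        (∀ v : V, φ (x : K ⊗[A] B) * v = 1 → x * j v - 1 ∈ P) := by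
    intro φ hφ x
    constructor <;> intro v hv <;> by_contra h <;> refine hφ _ h ?_
    · rw [Subalgebra.coe_sub, map_sub, hj, hv, sub_self]
    · rw [Subalgebra.coe_sub, Subalgebra.coe_mul, Subalgebra.coe_one, map_sub, map_mul, map_one, hj, hv, sub_self]
  have inv : ∀ y : K, y ∉ V → ∃ v : V, y * v = 1 := fun y hy =>
    ⟨⟨y⁻¹, (V.mem_or_inv_mem y).resolve_left hy⟩, mul_inv_cancel₀ fun h => hy (h ▸ V.zero_mem)⟩
  have bound : ∀ (φ : (K ⊗[A] B) →ₐ[K] K), (∀ s : BV, s ∉ P → φ (s : K ⊗[A] B) ≠ 0) → ∀ x : BV,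
      W.valuation (φ (x : K ⊗[A] B)) ≤ 1 ∧ (x ∈ P → W.valuation (φ (x : K ⊗[A] B)) < 1) := by
    intro φ hφ x
    by_cases hy : φ (x : K ⊗[A] B) ∈ V
    · exact ⟨hV1 ⟨_, hy⟩, fun hx => hnonunit ⟨_, hy⟩ (by
        simpa using P.sub_mem hx ((centre φ hφ x).1 ⟨_, hy⟩ rfl))⟩
    · obtain ⟨v, hv⟩ := inv _ hy
      have h1 := (centre φ hφ x).2 v hv
      have hxP : x ∉ P := fun hx => hP.ne_top ((Ideal.eq_top_iff_one _).mpr (by
        simpa using P.sub_mem (P.mul_mem_right (j v) hx) h1))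
      have hvP : j v ∉ P := fun h => hP.ne_top ((Ideal.eq_top_iff_one _).mpr (by
        simpa using P.sub_mem (P.mul_mem_left x h) h1))
      have h2 := congrArg W.valuation hv
      rw [map_mul, map_one, hunit v hvP, mul_one] at h2
      exact ⟨h2.le, fun hx => absurd hx hxP⟩
  have agree : ∀ x : BV, W.valuation (φ₂ (x : K ⊗[A] B) - φ₁ (x : K ⊗[A] B)) < 1 := by
    intro x
    by_cases hy : φ₁ (x : K ⊗[A] B) ∈ V
    · have h := (bound φ₂ hφ₂ _).2 ((centre φ₁ hφ₁ x).1 ⟨_, hy⟩ rfl)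
      rwa [Subalgebra.coe_sub, map_sub, hj] at h
    · obtain ⟨v, hv⟩ := inv _ hy
      have h1 := (centre φ₁ hφ₁ x).2 v hv
      have hvP : j v ∉ P := fun h => hP.ne_top ((Ideal.eq_top_iff_one _).mpr (by
        simpa using P.sub_mem (P.mul_mem_left x h) h1))
      have h := (bound φ₂ hφ₂ _).2 h1
      rw [Subalgebra.coe_sub, Subalgebra.coe_mul, Subalgebra.coe_one, map_sub, map_mul, map_one, hj] at h
      have h2 : φ₂ (x : K ⊗[A] B) * (v : K) - 1 = (φ₂ (x : K ⊗[A] B) - φ₁ (x : K ⊗[A] B)) * v := by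
        rw [sub_mul, hv]
      rwa [h2, map_mul, hunit v hvP, mul_one] at h
  let ι : B →ₐ[A] K ⊗[A] B := Algebra.TensorProduct.includeRight
  have hι : ∀ b : B, ι b ∈ BV := fun b => ⟨1 ⊗ₜ[A] b, by simp [ι]⟩
  let l := (φ₁.restrictScalars A).comp ι
  let m := (φ₂.restrictScalars A).comp ι
  obtain ⟨b, hb⟩ : ∃ b, l b ≠ m b := by
    by_contra! hall
    have h12 : φ₁ = φ₂ := by
      refine Algebra.TensorProduct.ext (AlgHom.ext fun c => ?_) (AlgHom.ext fun b => hall b)
      simp only [AlgHom.comp_apply, Algebra.TensorProduct.includeLeft_apply]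
      exact (φ₁.commutes c).trans (φ₂.commutes c).symm
    rw [← h12, map_sub, he₁, map_one, sub_self] at he₂
    exact zero_ne_one he₂
  let lB := Algebra.TensorProduct.lmul' A (S := B)
  have : (RingHom.ker lB.toRingHom).Pure :=
    (Groth.Agent.WeakEt.flat_iff_kernel_pure fun b => ⟨b ⊗ₜ[A] 1, (Algebra.TensorProduct.lmul'_apply_tmul b 1).trans (mul_one b)⟩).1
      (Algebra.WeaklyEtale.flat_lmul' A B)
  obtain ⟨w, hw, hbw⟩ := Ideal.exists_eq_mul_of_pure (I := RingHom.ker lB.toRingHom)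
    (x := b ⊗ₜ[A] 1 - 1 ⊗ₜ[A] b) (show lB (b ⊗ₜ[A] 1 - 1 ⊗ₜ[A] b) = 0 by simp [lB])
  let χ := Algebra.TensorProduct.lift l m fun _ _ => Commute.all _ _
  have hχw : χ w = 1 := by
    have h := congrArg χ hbw
    rw [map_mul] at h
    have hne : χ (b ⊗ₜ[A] 1 - 1 ⊗ₜ[A] b) ≠ 0 := by simpa [χ, sub_eq_zero] using hb
    exact (mul_eq_left₀ hne).mp h.symm
  have cong : ∀ z, W.valuation (χ z - l (lB z)) < 1 := fun z => by
    induction z using TensorProduct.induction_on with
    | zero => simp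
    | tmul x y =>
      simp only [χ, lB, Algebra.TensorProduct.lift_tmul, Algebra.TensorProduct.lmul'_apply_tmul, map_mul,
        ← mul_sub]
      exact mul_lt_one_of_nonneg_of_lt_one_right ((bound φ₁ hφ₁ ⟨_, hι x⟩).1) zero_le (agree ⟨_, hι y⟩)
    | add x y hx hy =>
      rw [map_add, map_add, map_add, add_sub_add_comm]
      exact W.valuation.map_add_lt hx hy
  have h := cong w
  rw [hχw, show lB w = 0 from hw, map_zero, sub_zero, map_one] at h
  exact lt_irrefl _ h

end

end Groth.Agent.Olivier
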