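import Groth.Agent.Olivier.Valuation

/-!
An idempotent of a flat base change defined over every valuation ring containing the base is defined over
the integral closure.
-/

set_option autoImplicit false
set_option backward.isDefEq.respectTransparency false

universe u

open TensorProduct

namespace Groth.Agent.Olivier

variable {A B K : Type u} [CommRing A] [CommRing B] [Field K] [Algebra A B] [Algebra A K]

/-- `e` is defined over the submodule `M` -/
def Over (e : K ⊗[A] B) (M : Submodule A K) : Prop := e ∈ LinearMap.range (M.subtype.rTensor B)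

theorem Over.mono {e : K ⊗[A] B} {M N : Submodule A K} (h : Over e M) (hMN : M ≤ N) : Over e N := by
  obtain ⟨z, rfl⟩ := h
  exact ⟨(Submodule.inclusion hMN).rTensor B z, by rw [← LinearMap.rTensor_comp_apply]; rfl⟩

theorem Over.inf [Module.Flat A B] {e : K ⊗[A] B} {M N : Submodule A K} (hM : Over e M) (hN : Over e N) :
    Over e (M ⊓ N) := by
  obtain ⟨m, rfl⟩ := hM
  obtain ⟨n, hn⟩ := hN
  let q : M →ₗ[A] K ⧸ N := N.mkQ.comp M.subtype
  have hex : Function.Exact (Submodule.inclusion (inf_le_left : M ⊓ N ≤ M)) q := fun x => by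
    constructor
    · intro hx
      exact ⟨⟨x.1, x.2, (Submodule.Quotient.mk_eq_zero N).mp hx⟩, rfl⟩
    · rintro ⟨y, rfl⟩
      exact (Submodule.Quotient.mk_eq_zero N).mpr y.2.2
  have hz : q.rTensor B m = 0 := by
    rw [LinearMap.rTensor_comp_apply, ← hn, ← LinearMap.rTensor_comp_apply,
      show N.mkQ.comp N.subtype = 0 by ext x; simp, LinearMap.rTensor_zero, LinearMap.zero_apply]
  obtain ⟨w, rfl⟩ := (Module.Flat.rTensor_exact B hex m).mp hz
  exact ⟨w, by rw [← LinearMap.rTensor_comp_apply]; rfl⟩

theorem over_top (e : K ⊗[A] B) : Over e (⊤ : Submodule A K) :=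
  LinearMap.rTensor_surjective B (g := (⊤ : Submodule A K).subtype) (fun x => ⟨⟨x, trivial⟩, rfl⟩) e

theorem Over.finset_inf [Module.Flat A B] {e : K ⊗[A] B} {ι : Type*} (s : Finset ι) {M : ι → Submodule A K}
    (h : ∀ i ∈ s, Over e (M i)) : Over e (s.inf M) := by
  classical
  induction s using Finset.induction_on with
  | empty => simpa using over_top e
  | insert i t hi ih =>
    rw [Finset.inf_insert]
    exact (h i (Finset.mem_insert_self i t)).inf (ih fun j hj => h j (Finset.mem_insert_of_mem hj))

theorem Over.exists_finset {e : K ⊗[A] B} {M : Submodule A K} (h : Over e M) :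
    ∃ F : Finset K, (↑F : Set K) ⊆ M ∧ Over e (Submodule.span A (↑F : Set K)) := by
  classical
  obtain ⟨z, rfl⟩ := h
  induction z using TensorProduct.induction_on with
  | zero => exact ⟨∅, by simp, 0, by simp⟩
  | tmul v b => exact ⟨{(v : K)}, by simp, ⟨(v : K), Submodule.subset_span (by simp)⟩ ⊗ₜ b, rfl⟩
  | add x y hx hy =>
    obtain ⟨F, hF, hx⟩ := hx
    obtain ⟨G, hG, hy⟩ := hy
    refine ⟨F ∪ G, by simp [hF, hG], ?_⟩
    rw [map_add]
    exact Submodule.add_mem _ (hx.mono (Submodule.span_mono (by simp))) (hy.mono (Submodule.span_mono (by simp)))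

/-- the valuation subring as a subalgebra -/
def valSubalgebra (V : ValuationSubring K) (h : Set.range (algebraMap A K) ⊆ V) : Subalgebra A K :=
  { V.toSubring with algebraMap_mem' := fun a => h ⟨a, rfl⟩ }

theorem mem_range_iff_over {e : K ⊗[A] B} (S : Subalgebra A K) :
    e ∈ (Algebra.TensorProduct.map S.val (AlgHom.id A B)).range ↔ Over e (Subalgebra.toSubmodule S) := by
  have : ∀ z, Algebra.TensorProduct.map S.val (AlgHom.id A B) z = (Subalgebra.toSubmodule S).subtype.rTensor B z :=
    fun z => by
      induction z using TensorProduct.induction_on with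
      | zero => simp
      | tmul x y => rfl
      | add x y hx hy => rw [map_add, map_add, hx, hy]
  exact ⟨fun ⟨z, hz⟩ => ⟨z, (this z).symm.trans hz⟩, fun ⟨z, hz⟩ => ⟨z, (this z).trans hz⟩⟩

/-- An idempotent in the geometric fibre is defined over the integral closure of the base. -/
theorem mem_range_integralClosure [Algebra.WeaklyEtale A B] [IsAlgClosed K] {e : K ⊗[A] B}
    (he : IsIdempotentElem e) :
    e ∈ (Algebra.TensorProduct.map (integralClosure A K).val (AlgHom.id A B)).range := by
  classical
  rw [mem_range_iff_over]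
  have hV : ∀ (V : ValuationSubring K), Set.range (algebraMap A K) ⊆ V →
      ∃ F : Finset K, (↑F : Set K) ⊆ V ∧ Over e (Submodule.span A (↑F : Set K)) := fun V h =>
    ((mem_range_iff_over (valSubalgebra V h)).mp
      (mem_range_valuation V (valSubalgebra V h) (fun _ => Iff.rfl) he)).exists_finset
  let I : Set (Finset K) := {F | Over e (Submodule.span A (↑F : Set K))}
  obtain ⟨t, htI, ht⟩ : ∃ t : Finset (Finset K), ↑t ⊆ I ∧
      ∀ V : ValuationSubring K, Set.range (algebraMap A K) ⊆ V → ∃ F ∈ t, (↑F : Set K) ⊆ V := by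
    by_contra! hno
    let S : Finset K → Set (ValuationSubring K) := fun F =>
      {V | Set.range (algebraMap A K) ⊆ V ∧ ¬ (↑F : Set K) ⊆ V}
    have : (Filter.generate (insert {V : ValuationSubring K | Set.range (algebraMap A K) ⊆ V} (S '' I))).NeBot := by
      rw [Filter.generate_neBot_iff]
      intro t hts htf
      obtain ⟨t₀, ht₀, ht₀f, heq⟩ := Set.exists_subset_image_finite_and.mp
        ⟨t \ {{V : ValuationSubring K | Set.range (algebraMap A K) ⊆ V}}, fun x hx => (hts hx.1).resolve_left hx.2,
          htf.sdiff, rfl⟩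
      obtain ⟨V, hV₁, hV₂⟩ := hno ht₀f.toFinset (by simpa using ht₀)
      refine ⟨V, fun x hx => ?_⟩
      by_cases hx0 : x = {V : ValuationSubring K | Set.range (algebraMap A K) ⊆ V}
      · rw [hx0]; exact hV₁
      · obtain ⟨F, hF, rfl⟩ : x ∈ S '' t₀ := heq ▸ ⟨hx, hx0⟩
        exact ⟨hV₁, hV₂ F (by simpa using hF)⟩
    let U := Ultrafilter.of (Filter.generate (insert {V : ValuationSubring K | Set.range (algebraMap A K) ⊆ V} (S '' I)))
    have hU : ∀ x ∈ insert {V : ValuationSubring K | Set.range (algebraMap A K) ⊆ V} (S '' I), x ∈ U :=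
      fun x hx => Ultrafilter.of_le _ (Filter.mem_generate_of_mem hx)
    let R : ValuationSubring K :=
      { carrier := {x | ∀ᶠ V in (U : Filter (ValuationSubring K)), x ∈ V}
        mul_mem' := fun {a b} ha hb => by filter_upwards [ha, hb] with V h h'; exact mul_mem h h'
        one_mem' := Filter.Eventually.of_forall fun V => V.one_mem
        add_mem' := fun {a b} ha hb => by filter_upwards [ha, hb] with V h h'; exact add_mem h h'
        zero_mem' := Filter.Eventually.of_forall fun V => V.zero_mem
        neg_mem' := fun {a} ha => by filter_upwards [ha] with V h; exact neg_mem h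
        mem_or_inv_mem' := fun x => Ultrafilter.eventually_or.mp (Filter.Eventually.of_forall fun V => V.mem_or_inv_mem x) }
    have hA : Set.range (algebraMap A K) ⊆ R := fun x hx => by
      change ∀ᶠ V in (U : Filter (ValuationSubring K)), x ∈ V
      filter_upwards [hU _ (Set.mem_insert _ _)] with V hV
      exact hV hx
    obtain ⟨F, hFR, hFe⟩ := hV R hA
    have h1 : ∀ᶠ V in (U : Filter (ValuationSubring K)), ∀ x ∈ F, x ∈ V :=
      (Filter.eventually_all_finset F).mpr fun x hx => hFR hx
    have h2 : ∀ᶠ V in (U : Filter (ValuationSubring K)), V ∈ S F :=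
      hU _ (Set.mem_insert_of_mem _ ⟨F, hFe, rfl⟩)
    obtain ⟨V, hV1, hV2⟩ := (h1.and h2).exists
    exact hV2.2 hV1
  refine (Over.finset_inf t (M := fun F => Submodule.span A (↑F : Set K)) fun F hF => htI hF).mono fun x hx => ?_
  have hx' : x ∈ ⨅ V : {V : ValuationSubring K // Set.range (algebraMap A K) ⊆ V.toSubring}, V.1.toSubring := by
    rw [Subring.mem_iInf]
    rintro ⟨V, hVA⟩
    obtain ⟨F, hF, hFV⟩ := ht V hVA
    exact (Submodule.span_le (p := Subalgebra.toSubmodule (valSubalgebra V hVA))).mpr hFV
      ((Submodule.mem_finsetInf.mp hx) F hF)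
  rw [iInf_valuationSubring_superset] at hx'
  have hx'' : IsIntegral (Subring.closure (Set.range (algebraMap A K))) x := hx'
  let f : A →+* Subring.closure (Set.range (algebraMap A K)) :=
    (algebraMap A K).codRestrict _ fun a => Subring.subset_closure ⟨a, rfl⟩
  have hf : Function.Surjective f := fun ⟨y, hy⟩ => by
    have : Subring.closure (Set.range (algebraMap A K)) ≤ (algebraMap A K).range :=
      Subring.closure_le.mpr (by simp)
    obtain ⟨a, rfl⟩ := this hy
    exact ⟨a, rfl⟩
  let := f.toAlgebra
  have : IsScalarTower A (Subring.closure (Set.range (algebraMap A K))) K := IsScalarTower.of_algebraMap_eq fun _ => rfl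
  have : Algebra.IsIntegral A (Subring.closure (Set.range (algebraMap A K))) := Algebra.IsIntegral.of_surjective (Algebra.ofId A _) hf
  exact isIntegral_trans x hx''

end Groth.Agent.Olivier
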